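import Cfsg.Agent.Lib.Helper12.TCG.Fi22Ib729.TabT

/-! relator checks for Fi22Ib729, part 1 (generated, helper12) -/

set_option autoImplicit false
set_option maxRecDepth 100000
set_option Elab.async false

namespace Cfsg.Agent.Lib.Helper12.TCG.Fi22Ib729

open Cfsg.Agent.Lib.Helper12.TC Cfsg.Agent.Lib.Helper12.TCG

theorem hperm0_0 : permPartG 18364758544493064720 TT 0 tN 0 729 = true := by decide +kernel

theorem hperm1_0 : permPartG 18364758544493064720 TT 1 tN 0 729 = true := by decide +kernel

theorem hperm2_0 : permPartG 18364758544493064720 TT 2 tN 0 729 = true := by decide +kernel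

theorem hperm3_0 : permPartG 18364758544493064720 TT 3 tN 0 729 = true := by decide +kernel

theorem hperm4_0 : permPartG 18364758544493064720 TT 4 tN 0 729 = true := by decide +kernel

theorem hperm5_0 : permPartG 18364758544493064720 TT 5 tN 0 729 = true := by decide +kernel

theorem hperm6_0 : permPartG 18364758544493064720 TT 6 tN 0 729 = true := by decide +kernel

theorem hm0 : Fn.marksK TT tN [([0, 1], 3)] = true := by decide +kernel

theorem hm2 : Fn.marksK TT tN [([0, 3], 2)] = true := by decide +kernel

theorem hm4 : Fn.marksK TT tN [([0, 5], 2)] = true := by decide +kernel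

theorem hm6 : Fn.marksK TT tN [([1, 2], 3)] = true := by decide +kernel

theorem hm8 : Fn.marksK TT tN [([1, 4], 2)] = true := by decide +kernel

theorem hm10 : Fn.marksK TT tN [([1, 6], 2)] = true := by decide +kernel

theorem hm12 : Fn.marksK TT tN [([2, 4], 2)] = true := by decide +kernel

theorem hm14 : Fn.marksK TT tN [([2, 6], 2)] = true := by decide +kernel

theorem hm16 : Fn.marksK TT tN [([3, 5], 2)] = true := by decide +kernel

theorem hm18 : Fn.marksK TT tN [([4, 5], 2)] = true := by decide +kernel

theorem hm20 : Fn.marksK TT tN [([5, 6], 3)] = true := by decide +kernel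

theorem hm23 : Fn.marksK TT tN [([1], 2)] = true := by decide +kernel

theorem hm25 : Fn.marksK TT tN [([3], 2)] = true := by decide +kernel

theorem hm27 : Fn.marksK TT tN [([5], 2)] = true := by decide +kernel

theorem hm29 : Fn.marksK TT tN [([], 1)] = true := by decide +kernel

end Cfsg.Agent.Lib.Helper12.TCG.Fi22Ib729
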